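import Mathlib
import Groth.Agent.NormalLib.KrullAkizuki

/-! Noetherianity of integral closures in composite fields (via Krull–Akizuki). -/

set_option autoImplicit false

universe u

namespace IntClosEss

open TensorProduct

/-- The field case: `M` is a compositum of `Frac B` and the algebraic extension `K'`. -/
theorem isNoetherianRing_of_compositum (A B K L K' M : Type u)
    [CommRing A] [IsDomain A] [CommRing B] [IsDomain B] [IsNoetherianRing B] [Ring.DimensionLEOne B]
    [Algebra A B] [Algebra.EssFiniteType A B]
    [Field K] [Algebra A K] [IsFractionRing A K]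
    [Field L] [Algebra B L] [IsFractionRing B L]
    [Field K'] [Algebra K K'] [Algebra A K'] [IsScalarTower A K K'] [Algebra.IsAlgebraic K K']
    (hA' : IsNoetherianRing (integralClosure A K'))
    [Field M] [Algebra B M]
    (ψL : L →+* M) (ψK : K' →+* M)
    (hB : ∀ b, ψL (algebraMap B L b) = algebraMap B M b)
    (hA : ∀ a, ψK (algebraMap A K' a) = algebraMap B M (algebraMap A B a))
    (hgen : Subring.closure (Set.range ψL ∪ Set.range ψK) = ⊤) :
    IsNoetherianRing (integralClosure B M) := by
  classical
  let iAM : Algebra A M := ((algebraMap B M).comp (algebraMap A B)).toAlgebra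
  letI := iAM
  have : IsScalarTower A B M := IsScalarTower.of_algebraMap_eq' rfl
  let χ : integralClosure A K' →+* M := ψK.comp (integralClosure A K').toSubring.subtype
  letI iA'M : Algebra (integralClosure A K') M := χ.toAlgebra
  have : IsScalarTower A (integralClosure A K') M := IsScalarTower.of_algebraMap_eq fun a => (hA a).symm
  let φ : integralClosure A K' ⊗[A] B →ₐ[integralClosure A K'] M :=
    Algebra.TensorProduct.lift (Algebra.ofId _ M) (IsScalarTower.toAlgHom A B M) fun x y => Commute.all _ _
  have : IsNoetherianRing (integralClosure A K' ⊗[A] B) :=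
    Algebra.EssFiniteType.isNoetherianRing (integralClosure A K') _
  let C : Subring M := φ.toRingHom.range
  have hCnoeth : IsNoetherianRing C := isNoetherianRing_range φ.toRingHom
  have hBC : ∀ b : B, algebraMap B M b ∈ C := fun b => ⟨1 ⊗ₜ b, by
    show φ (1 ⊗ₜ b) = _
    rw [Algebra.TensorProduct.lift_tmul, map_one, one_mul]; rfl⟩
  have hA'C : ∀ x : integralClosure A K', ψK (x : K') ∈ C := fun x => ⟨x ⊗ₜ 1, by
    show φ (x ⊗ₜ 1) = _
    rw [Algebra.TensorProduct.lift_tmul, map_one, mul_one]; rfl⟩
  have hint : ∀ c ∈ C, IsIntegral B c := by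
    rintro _ ⟨t, rfl⟩
    show IsIntegral B (φ t)
    induction t using TensorProduct.induction_on with
    | zero => rw [map_zero]; exact isIntegral_zero
    | add s t hs ht => rw [map_add]; exact hs.add ht
    | tmul x b =>
      rw [Algebra.TensorProduct.lift_tmul]
      refine IsIntegral.mul ?_ (isIntegral_algebraMap (R := B) (A := M) (x := b))
      have hx : IsIntegral A (x : K') := x.2
      have h2 : IsIntegral A (ψK (x : K')) :=
        hx.map (AlgHom.mk ψK fun a => hA a)
      exact h2.tower_top
  let iBC : Algebra B C := ((algebraMap B M).codRestrict C hBC).toAlgebra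
  letI := iBC
  have : IsScalarTower B C M := IsScalarTower.of_algebraMap_eq' rfl
  have hintC : Algebra.IsIntegral B C :=
    ⟨fun c => (isIntegral_algHom_iff (IsScalarTower.toAlgHom B C M) Subtype.val_injective).1 (hint c.1 c.2)⟩
  have hBinj : Function.Injective (algebraMap B M) := by
    intro x y hxy
    rw [← hB, ← hB] at hxy
    exact IsFractionRing.injective B L (ψL.injective hxy)
  have hdim : Ring.KrullDimLE 1 C := by
    refine Ring.krullDimLE_one_iff_of_noZeroDivisors.2 fun P hP hPp => ?_
    haveI := hPp
    have h0 : P.comap (algebraMap B C) ≠ ⊥ := fun h => hP (Ideal.eq_bot_of_comap_eq_bot h)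
    haveI : (P.comap (algebraMap B C)).IsMaximal := Ideal.IsPrime.isMaximal inferInstance h0
    exact Ideal.isMaximal_of_isIntegral_of_isMaximal_comap (R := B) P inferInstance
  have hfrac : IsFractionRing C M := by
    refine IsFractionRing.of_field C M fun z => ?_
    have hz : z ∈ Subfield.closure (C : Set M) := by
      have : Set.range ψL ∪ Set.range ψK ⊆ (Subfield.closure (C : Set M) : Set M) := by
        rintro _ (⟨l, rfl⟩ | ⟨k, rfl⟩)
        · obtain ⟨b, s, rfl⟩ := IsLocalization.exists_mk'_eq (nonZeroDivisors B) l
          rw [IsFractionRing.mk'_eq_div, map_div₀, hB, hB]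
          exact div_mem (Subfield.subset_closure (hBC b)) (Subfield.subset_closure (hBC s))
        · have halg : IsAlgebraic A k :=
            (IsFractionRing.isAlgebraic_iff A K K').2 (Algebra.IsAlgebraic.isAlgebraic k)
          obtain ⟨d, hd, hdk⟩ := halg.exists_integral_multiple
          have hd' : algebraMap A K' d ≠ 0 := by
            rw [IsScalarTower.algebraMap_apply A K K']
            exact fun h => hd (IsFractionRing.injective A K
              ((algebraMap K K').injective (h.trans (map_zero _).symm) |>.trans (map_zero _).symm))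
          have : ψK k = ψK (d • k) / ψK (algebraMap A K' d) := by
            rw [← map_div₀, Algebra.smul_def, mul_div_cancel_left₀ _ hd']
          rw [this]
          refine div_mem (Subfield.subset_closure (hA'C ⟨d • k, hdk⟩)) (Subfield.subset_closure ?_)
          rw [hA]; exact hBC _
      have h2 : Subring.closure (Set.range ψL ∪ Set.range ψK) ≤ (Subfield.closure (C : Set M)).toSubring :=
        Subring.closure_le.2 this
      rw [hgen] at h2
      exact h2 (Subring.mem_top z)
    obtain ⟨y, hy, w, hw, rfl⟩ := Subfield.mem_closure_iff.1 hz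
    rw [Subring.closure_eq] at hy hw
    exact ⟨⟨y, hy⟩, ⟨w, hw⟩, rfl⟩
  let iCD : Algebra C (integralClosure B M) :=
    ((C.subtype).codRestrict (integralClosure B M).toSubring fun c => hint c.1 c.2).toAlgebra
  letI := iCD
  haveI : IsScalarTower C (integralClosure B M) M := IsScalarTower.of_algebraMap_eq fun _ => rfl
  exact NormalLib.isNoetherianRing_of_between (R := C) M (L := M) (integralClosure B M) Subtype.val_injective

theorem isNoetherian_of_surjective_algebraMap (S T : Type u) [CommRing S] [CommRing T] [Algebra S T]
    [IsNoetherianRing T] (h : Function.Surjective (algebraMap S T)) : IsNoetherian S T := by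
  refine ⟨fun N => ?_⟩
  obtain ⟨s, hs⟩ := (inferInstance : IsNoetherian T T).noetherian (Submodule.span T (N : Set T))
  refine ⟨s, ?_⟩
  have h1 := congrArg (Submodule.restrictScalars S) hs
  rw [Submodule.restrictScalars_span S T h, Submodule.restrictScalars_span S T h, Submodule.span_eq] at h1
  exact h1

/-- Reduced Artinian target: reduce to the field quotients. -/
theorem isNoetherianRing_of_quotients (B L' : Type u) [CommRing B] [CommRing L'] [Algebra B L']
    [IsArtinianRing L'] [IsReduced L']
    (h : ∀ m : Ideal L', m.IsMaximal → IsNoetherianRing (integralClosure B (L' ⧸ m))) :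
    IsNoetherianRing (integralClosure B L') := by
  classical
  let S := integralClosure B L'
  let ι := MaximalSpectrum L'
  haveI : Fintype ι := Fintype.ofFinite ι
  let π : ∀ m : ι, S →+* integralClosure B (L' ⧸ m.asIdeal) := fun m =>
    ((Ideal.Quotient.mk m.asIdeal).comp S.toSubring.subtype).codRestrict
      (integralClosure B (L' ⧸ m.asIdeal)).toSubring fun x =>
        IsIntegral.map (Ideal.Quotient.mkₐ B m.asIdeal) x.2
  let e := IsArtinianRing.equivPi L'
  have he : ∀ x m, e x m = Ideal.Quotient.mk m.asIdeal x := fun x m => rfl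
  have hsurj : ∀ m, Function.Surjective (π m) := by
    intro m y
    let f : ∀ i : ι, L' ⧸ i.asIdeal := Pi.single m (y : L' ⧸ m.asIdeal)
    have hfi : ∀ i, IsIntegral B (f i) := by
      intro i
      rcases eq_or_ne i m with rfl | hne
      · simp only [f, Pi.single_eq_same]; exact y.2
      · simp only [f, Pi.single_eq_of_ne hne]; exact isIntegral_zero
    obtain ⟨x, hx⟩ := e.surjective f
    have hxi : IsIntegral B x := by
      choose p hp hpf using hfi
      refine ⟨∏ i, p i, Polynomial.monic_prod_of_monic _ _ fun i _ => hp i, ?_⟩
      rw [← Polynomial.aeval_def]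
      apply e.injective
      rw [map_zero]
      funext i
      rw [he, Pi.zero_apply, ← Ideal.Quotient.mkₐ_eq_mk B, ← Polynomial.aeval_algHom_apply,
        Ideal.Quotient.mkₐ_eq_mk, ← he, hx, map_prod]
      exact Finset.prod_eq_zero (Finset.mem_univ i) (hpf i)
    refine ⟨⟨x, hxi⟩, Subtype.ext ?_⟩
    show Ideal.Quotient.mk m.asIdeal x = (y : L' ⧸ m.asIdeal)
    rw [← he, hx]
    simp [f]
  have hinj : ∀ x : S, (∀ m, π m x = 0) → x = 0 := fun x hx => Subtype.ext (e.injective (by
    rw [ZeroMemClass.coe_zero, map_zero]
    funext m
    rw [he]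
    exact congrArg Subtype.val (hx m)))
  letI : ∀ m : ι, Algebra S (integralClosure B (L' ⧸ m.asIdeal)) := fun m => (π m).toAlgebra
  haveI : ∀ m : ι, IsNoetherian S (integralClosure B (L' ⧸ m.asIdeal)) := fun m => by
    haveI := h m.asIdeal m.isMaximal
    exact isNoetherian_of_surjective_algebraMap S _ (hsurj m)
  exact isNoetherian_of_injective (LinearMap.pi fun m : ι => Algebra.linearMap S (integralClosure B (L' ⧸ m.asIdeal)))
    ((injective_iff_map_eq_zero _).2 fun x hx => hinj x fun m => congrFun hx m)

end IntClosEss
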